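import Groth.Agent.PurTrans.Ring
import Groth.Agent.EtaleSite.PushFiber
import Groth.Agent.DescSh.BCConn
import Mathlib.AlgebraicGeometry.Morphisms.Smooth
import Mathlib.RingTheory.Unramified.LocalStructure

/-!
Étale schemes over the base change to `O(T)` come from finitely many variables.
-/

set_option autoImplicit false
set_option linter.style.haveILetI false
set_option backward.isDefEq.respectTransparency.types false

universe u

open CategoryTheory CategoryTheory.Limits AlgebraicGeometry
open scoped TensorProduct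

namespace Groth.Agent.PurTrans

/-- Standard étale algebras of equal pairs. -/
noncomputable def pairCast {A : Type u} [CommRing A] {P Q : StandardEtalePair A} (h : P = Q) :
    P.Ring ≃ₐ[A] Q.Ring := h ▸ AlgEquiv.refl

/-- The tautological presentation of a standard étale algebra. -/
noncomputable def taut {A : Type u} [CommRing A] (P : StandardEtalePair A) :
    StandardEtalePresentation A P.Ring :=
  ⟨P, P.X, P.hasMap_X, by simpa [StandardEtalePair.lift_X_left] using Function.bijective_id⟩

variable (O : Type u) [CommRing O]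

/-- `Spec` of the structure map. -/
noncomputable def qC (C : Type u) [CommRing C] [Algebra O C] :
    Spec (CommRingCat.of C) ⟶ Spec (CommRingCat.of O) :=
  Spec.map (CommRingCat.ofHom (algebraMap O C))

variable {O} {S : Scheme.{u}} (b : S ⟶ Spec (CommRingCat.of O))
  {R : Type u} [CommRing R] [Algebra O R] (u : Spec (CommRingCat.of R) ⟶ S) (hu : u ≫ b = qC O R)
  (C : Type u) [CommRing C] [Algebra O C]

/-- An affine chart of a base change. -/
noncomputable def chart : Spec (CommRingCat.of (R ⊗[O] C)) ⟶ pullback b (qC O C) :=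
  pullback.lift (Spec.map (CommRingCat.ofHom Algebra.TensorProduct.includeLeftRingHom) ≫ u)
    (Spec.map (CommRingCat.ofHom (Algebra.TensorProduct.includeRight : C →ₐ[O] R ⊗[O] C).toRingHom))
    (by
      rw [Category.assoc, hu]
      simp only [qC, ← Spec.map_comp]
      congr 1
      ext x
      exact ((Algebra.TensorProduct.includeRight : C →ₐ[O] R ⊗[O] C).commutes x).symm)

theorem chart_fst : chart b u hu C ≫ pullback.fst b (qC O C) =
    Spec.map (CommRingCat.ofHom Algebra.TensorProduct.includeLeftRingHom) ≫ u :=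
  pullback.lift_fst _ _ _

theorem chart_isPullback : IsPullback (chart b u hu C)
    (Spec.map (CommRingCat.ofHom (Algebra.TensorProduct.includeLeftRingHom : R →+* R ⊗[O] C)))
    (pullback.fst b (qC O C)) u := by
  have h0 : IsPullback (Spec.map (CommRingCat.ofHom Algebra.TensorProduct.includeLeftRingHom))
      (Spec.map (CommRingCat.ofHom (Algebra.TensorProduct.includeRight : C →ₐ[O] R ⊗[O] C).toRingHom))
      (qC O R) (qC O C) := by
    have hc : Spec.map (CommRingCat.ofHom (Algebra.TensorProduct.includeLeftRingHom : R →+* R ⊗[O] C)) ≫ qC O R =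
        Spec.map (CommRingCat.ofHom (Algebra.TensorProduct.includeRight : C →ₐ[O] R ⊗[O] C).toRingHom) ≫
          qC O C := by
      simp only [qC, ← Spec.map_comp]
      congr 1
      ext x
      exact ((Algebra.TensorProduct.includeRight : C →ₐ[O] R ⊗[O] C).commutes x).symm
    exact IsPullback.of_iso_pullback ⟨hc⟩ (pullbackSpecIso O R C).symm
      (pullbackSpecIso_inv_fst _ _ _) (pullbackSpecIso_inv_snd _ _ _)
  refine IsPullback.of_right ?_ (chart_fst b u hu C) (IsPullback.of_hasPullback b (qC O C)).flip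
  rw [hu, show chart b u hu C ≫ pullback.snd b (qC O C) = _ from pullback.lift_snd _ _ _]
  exact h0.flip

theorem isOpenImmersion_chart [IsOpenImmersion u] : IsOpenImmersion (chart b u hu C) :=
  MorphismProperty.of_isPullback (chart_isPullback b u hu C).flip ‹_›

variable [IsLocalRing O] (T : Type u) (F : Finset T)

/-- The projection to finitely many variables. -/
noncomputable def πF : pullback b (qC O (Gen O T)) ⟶ pullback b (qC O (MvPolynomial {x // x ∈ F} O)) :=
  pullback.lift (pullback.fst _ _) (pullback.snd _ _ ≫ Spec.map (CommRingCat.ofHom (toGen O T F).toRingHom))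
    (by
      rw [Category.assoc, pullback.condition]
      simp only [qC, ← Spec.map_comp]
      congr 3
      exact (toGen O T F).comp_algebraMap.symm)

theorem πF_fst : πF b T F ≫ pullback.fst _ _ = pullback.fst b (qC O (Gen O T)) := pullback.lift_fst _ _ _

theorem πF_snd : πF b T F ≫ pullback.snd _ _ =
    pullback.snd b (qC O (Gen O T)) ≫ Spec.map (CommRingCat.ofHom (toGen O T F).toRingHom) :=
  pullback.lift_snd _ _ _

theorem chart_πF : chart b u hu (Gen O T) ≫ πF b T F =
    Spec.map (CommRingCat.ofHom (toGenR O R T F).toRingHom) ≫ chart b u hu (MvPolynomial {x // x ∈ F} O) := by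
  apply pullback.hom_ext
  · simp only [chart, Category.assoc, πF_fst, pullback.lift_fst]
    rw [← Category.assoc]
    congr 1
    rw [← Spec.map_comp]
    congr 1
    ext x
    simp [toGenR]
  · simp only [chart, Category.assoc, πF_snd, pullback.lift_snd, pullback.lift_snd_assoc]
    rw [← Spec.map_comp, ← Spec.map_comp]
    congr 1

set_option maxHeartbeats 1000000 in
/-- Étale schemes over the base change to `O(T)` come, locally, from finitely many variables. -/
theorem exists_descent (N : (pullback b (qC O (Gen O T))).Etale) (z : N.left) :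
    ∃ (F : Finset T) (NA : (pullback b (qC O (MvPolynomial {x // x ∈ F} O))).Etale)
      (j : (EtCoh.bc (πF b T F)).obj NA ⟶ N) (z₀ : ((EtCoh.bc (πF b T F)).obj NA).left), j.left z₀ = z := by
  let NL : Scheme.{u} := N.left
  let hN : NL ⟶ pullback b (qC O (Gen O T)) := N.hom
  haveI : Etale hN := N.prop
  obtain ⟨R, u, hu0, ⟨r₀, hr₀⟩, -⟩ := Scheme.exists_affine_mem_range_and_range_subset
    (x := pullback.fst b (qC O (Gen O T)) (hN (z : NL))) (U := (⊤ : S.Opens)) trivial
  letI : Algebra O R := (Spec.preimage (u ≫ b)).hom.toAlgebra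
  have hu : u ≫ b = qC O R := (Spec.map_preimage (u ≫ b)).symm
  let eG := chart b u hu (Gen O T)
  haveI : IsOpenImmersion eG := isOpenImmersion_chart b u hu _
  have hzG : hN z ∈ eG.opensRange := by
    obtain ⟨w, hw, -⟩ := Scheme.exists_preimage_of_isPullback (chart_isPullback b u hu (Gen O T))
      (hN z) r₀ hr₀.symm
    exact ⟨w, hw⟩
  obtain ⟨B, eB, heB, ⟨zB, hzB⟩, hBsub⟩ := Scheme.exists_affine_mem_range_and_range_subset
    (x := (z : NL)) (U := hN ⁻¹ᵁ eG.opensRange) hzG
  have hrB : Set.range (eB ≫ hN) ⊆ Set.range eG := by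
    rintro _ ⟨w, rfl⟩
    exact hBsub ⟨w, rfl⟩
  let ψ : Spec B ⟶ Spec (CommRingCat.of (R ⊗[O] Gen O T)) := IsOpenImmersion.lift eG (eB ≫ hN) hrB
  have hψ : ψ ≫ eG = eB ≫ hN := IsOpenImmersion.lift_fac _ _ _
  haveI : Etale (ψ ≫ eG) := hψ.symm ▸ inferInstance
  haveI : Etale ψ := Etale.of_comp ψ eG
  let φ := Spec.preimage ψ
  have hφ : Spec.map φ = ψ := Spec.map_preimage ψ
  letI : Algebra (R ⊗[O] Gen O T) B := φ.hom.toAlgebra
  have hφe : φ.hom.Etale := (HasRingHomProperty.Spec_iff (P := @Etale)).1 (hφ.symm ▸ ‹Etale ψ›)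
  haveI : Algebra.Etale (R ⊗[O] Gen O T) B := RingHom.etale_algebraMap.1 hφe
  obtain ⟨f, hf, ⟨⟨Pst⟩⟩⟩ := Algebra.IsEtaleAt.exists_isStandardEtale (R := R ⊗[O] Gen O T) zB.asIdeal
  obtain ⟨F, d, hd, P₀, hP₀⟩ := exists_pair_finset O R T Pst.P
  refine ⟨F, ?_⟩
  let AF : Type u := Localization.Away d
  let ρ : AF →+* R ⊗[O] Gen O T := IsLocalization.Away.lift d hd
  have hρ : ρ.comp (algebraMap _ AF) = (toGenR O R T F).toRingHom :=
    away_lift_comp_algebraMap d (toGenR O R T F).toRingHom hd
  letI : Algebra AF (R ⊗[O] Gen O T) := ρ.toAlgebra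
  let eF := chart b u hu (MvPolynomial {x // x ∈ F} O)
  haveI : IsOpenImmersion eF := isOpenImmersion_chart b u hu _
  let eA : Spec (CommRingCat.of AF) ⟶ Spec (CommRingCat.of (R ⊗[O] MvPolynomial {x // x ∈ F} O)) :=
    Spec.map (CommRingCat.ofHom (algebraMap _ (Localization.Away d)))
  haveI : IsOpenImmersion eA := IsOpenImmersion.of_isLocalization d
  let oF : Spec (CommRingCat.of AF) ⟶ pullback b (qC O (MvPolynomial {x // x ∈ F} O)) := eA ≫ eF
  have hcomm : eG ≫ πF b T F = Spec.map (CommRingCat.ofHom ρ) ≫ oF := by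
    rw [chart_πF, ← Category.assoc, ← Spec.map_comp, ← CommRingCat.ofHom_comp, hρ]
  have hpre : πF b T F ⁻¹ᵁ oF.opensRange = eG.opensRange := by
    ext p
    constructor
    · rintro ⟨a, ha⟩
      obtain ⟨w, hw, -⟩ := Scheme.exists_preimage_of_isPullback (chart_isPullback b u hu (Gen O T)) p
        (Spec.map (CommRingCat.ofHom Algebra.TensorProduct.includeLeftRingHom) (eA a)) (by
          rw [← Scheme.Hom.comp_apply, ← πF_fst b T F, Scheme.Hom.comp_apply]
          erw [← ha]
          rw [show oF a = eF (eA a) from rfl, ← Scheme.Hom.comp_apply, chart_fst])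
      exact ⟨w, hw⟩
    · rintro ⟨w, rfl⟩
      exact ⟨Spec.map (CommRingCat.ofHom ρ) w, by
        rw [← Scheme.Hom.comp_apply, ← hcomm]; rfl⟩
  have hsq1 : IsPullback (Spec.map (CommRingCat.ofHom ρ)) eG oF (πF b T F) :=
    IsOpenImmersion.isPullback _ _ _ _ hcomm hpre
  let str : Spec (CommRingCat.of P₀.Ring) ⟶ Spec (CommRingCat.of AF) :=
    Spec.map (CommRingCat.ofHom (algebraMap AF P₀.Ring))
  haveI : Etale str := (HasRingHomProperty.Spec_iff (P := @Etale)).2
    (RingHom.etale_algebraMap.2 inferInstance)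
  let W : Scheme.{u} := Spec (CommRingCat.of ((R ⊗[O] Gen O T) ⊗[AF] P₀.Ring))
  let iL : W ⟶ Spec (CommRingCat.of (R ⊗[O] Gen O T)) :=
    Spec.map (CommRingCat.ofHom Algebra.TensorProduct.includeLeftRingHom)
  let iR : W ⟶ Spec (CommRingCat.of P₀.Ring) := Spec.map (CommRingCat.ofHom
    (Algebra.TensorProduct.includeRight : P₀.Ring →ₐ[AF] (R ⊗[O] Gen O T) ⊗[AF] P₀.Ring).toRingHom)
  have hsq0 : IsPullback iR iL str (Spec.map (CommRingCat.ofHom ρ)) := by
    have hc : iL ≫ Spec.map (CommRingCat.ofHom ρ) = iR ≫ str := by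
      simp only [iL, iR, str, ← Spec.map_comp]
      congr 1
      ext x
      exact ((Algebra.TensorProduct.includeRight :
        P₀.Ring →ₐ[AF] (R ⊗[O] Gen O T) ⊗[AF] P₀.Ring).commutes x).symm
    exact (IsPullback.of_iso_pullback ⟨hc⟩ (pullbackSpecIso AF (R ⊗[O] Gen O T) P₀.Ring).symm
      (pullbackSpecIso_inv_fst _ _ _) (pullbackSpecIso_inv_snd _ _ _)).flip
  have hsq : IsPullback iR (iL ≫ eG) (str ≫ oF) (πF b T F) := hsq0.paste_vert hsq1
  haveI : Etale oF := inferInstance
  let NA : (pullback b (qC O (MvPolynomial {x // x ∈ F} O))).Etale := Scheme.Etale.mk (str ≫ oF)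
  refine ⟨NA, ?_⟩
  let Θ : (R ⊗[O] Gen O T) ⊗[AF] P₀.Ring ≃ₐ[R ⊗[O] Gen O T] Localization.Away f :=
    ((taut P₀).baseChange.equivRing.trans (pairCast hP₀)).trans Pst.equivRing.symm
  let eΘ : W ⟶ Spec B :=
    Spec.map (CommRingCat.ofHom (Θ.symm.toAlgHom.toRingHom.comp (algebraMap B _)))
  have hΘ : eΘ ≫ ψ = iL := by
    simp only [eΘ, iL, ← hφ, ← Spec.map_comp]
    congr 1
    refine CommRingCat.hom_ext (RingHom.ext fun x => ?_)
    exact (congrArg Θ.symm (IsScalarTower.algebraMap_apply (R ⊗[O] Gen O T) B (Localization.Away f) x).symm).trans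
      (Θ.symm.commutes x)
  let j0 : pullback (str ≫ oF) (πF b T F) ⟶ NL := hsq.isoPullback.inv ≫ eΘ ≫ eB
  have hj : j0 ≫ hN = pullback.snd (str ≫ oF) (πF b T F) := by
    simp only [j0, Category.assoc, ← hψ, reassoc_of% hΘ]
    exact hsq.isoPullback_inv_snd
  let j : (EtCoh.bc (πF b T F)).obj NA ⟶ N := MorphismProperty.Over.homMk j0 hj trivial
  obtain ⟨p, hp⟩ : zB ∈ Set.range (PrimeSpectrum.comap (algebraMap B (Localization.Away f))) := by
    rw [PrimeSpectrum.localization_away_comap_range (Localization.Away f) f]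
    exact hf
  let p' : ↥(Spec (CommRingCat.of (Localization.Away f))) := p
  let w : W := Spec.map (CommRingCat.ofHom Θ.toAlgHom.toRingHom) p'
  refine ⟨j, hsq.isoPullback.hom w, ?_⟩
  show j0 (hsq.isoPullback.hom w) = z
  rw [← hzB, ← Scheme.Hom.comp_apply, ← hp]
  simp only [j0, Iso.hom_inv_id_assoc]
  show eB (eΘ (Spec.map (CommRingCat.ofHom Θ.toAlgHom.toRingHom) p')) = _
  rw [← Scheme.Hom.comp_apply (g := eΘ)]
  simp only [eΘ, ← Spec.map_comp]
  congr 2
  refine congrArg (fun g => Spec.map g p') ?_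
  refine CommRingCat.hom_ext (RingHom.ext fun x => ?_)
  exact Θ.apply_symm_apply _

end Groth.Agent.PurTrans
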