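import Groth.Agent.PurTrans.Ring
import Mathlib.AlgebraicGeometry.Geometrically.Irreducible
import Mathlib.AlgebraicGeometry.Morphisms.Preimmersion
import Mathlib.RingTheory.TensorProduct.MvPolynomial
import Mathlib.RingTheory.Spectrum.Prime.Polynomial
import Mathlib.Algebra.MvPolynomial.Equiv
import Mathlib.Logic.Equiv.Sum

/-!
Connectedness of fibres over `O(T)`.
-/

set_option autoImplicit false
set_option linter.style.haveILetI false
set_option backward.isDefEq.respectTransparency.types false

universe u

open CategoryTheory CategoryTheory.Limits AlgebraicGeometry MorphismProperty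
open scoped TensorProduct

namespace Groth.Agent.PurTrans

/-- `Spec` of the coefficient map of a polynomial ring. -/
noncomputable def cMap (A σ : Type u) [CommRing A] :
    Spec (CommRingCat.of (MvPolynomial σ A)) ⟶ Spec (CommRingCat.of A) :=
  Spec.map (CommRingCat.ofHom (algebraMap A (MvPolynomial σ A)))

instance universallyOpen_cMap (A σ : Type u) [CommRing A] : UniversallyOpen (cMap A σ) := by
  refine ⟨universally_mk' _ _ fun {T} g _ ↦ ?_⟩
  wlog hT : ∃ R, T = Spec R generalizing T
  · refine (IsZariskiLocalAtTarget.iff_of_openCover T.affineCover).mpr fun i ↦ ?_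
    refine (MorphismProperty.cancel_left_of_respectsIso _
      ((pullbackRightPullbackFstIso ..).inv ≫ (pullbackSymmetry ..).hom) _).mp ?_
    simpa [Scheme.Cover.pullbackHom] using! this _ _ ⟨_, rfl⟩
  obtain ⟨R, rfl⟩ := hT
  obtain ⟨ψ, rfl⟩ := Spec.map_surjective g
  algebraize [ψ.hom]
  refine (MorphismProperty.cancel_left_of_respectsIso _
    (pullbackSpecIso A R (MvPolynomial σ A)).inv _).mp ?_
  convert_to! topologically _
    (Spec.map <| CommRingCat.ofHom (algebraMap R (R ⊗[A] MvPolynomial σ A)))
  · exact pullbackSpecIso_inv_fst' ..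
  let e : R ⊗[A] MvPolynomial σ A ≃ₐ[R] MvPolynomial σ R := MvPolynomial.algebraTensorAlgEquiv A R
  have he : algebraMap R (R ⊗[A] MvPolynomial σ A) =
      e.symm.toAlgHom.toRingHom.comp (algebraMap R (MvPolynomial σ R)) :=
    RingHom.ext fun x => (e.symm.commutes x).symm
  have h1 : IsOpenMap (PrimeSpectrum.comap (algebraMap R (R ⊗[A] MvPolynomial σ A))) := by
    rw [he, PrimeSpectrum.comap_comp]
    exact (MvPolynomial.isOpenMap_comap_C (R := R) (σ := σ)).comp
      (PrimeSpectrum.homeomorphOfRingEquiv e.symm.toRingEquiv).symm.isOpenMap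
  exact h1

instance geometricallyIrreducible_cMap (A σ : Type u) [CommRing A] : GeometricallyIrreducible (cMap A σ) := by
  refine ⟨fun K _ y Z fst snd h => ?_⟩
  let φ := Spec.preimage y
  have hy : Spec.map φ = y := Spec.map_preimage y
  letI : Algebra A K := φ.hom.toAlgebra
  let e : K ⊗[A] MvPolynomial σ A ≃ₐ[K] MvPolynomial σ K := MvPolynomial.algebraTensorAlgEquiv A K
  haveI : IsDomain (K ⊗[A] MvPolynomial σ A) := MulEquiv.isDomain _ e.toMulEquiv
  haveI : IrreducibleSpace (PrimeSpectrum (K ⊗[A] MvPolynomial σ A)) := inferInstance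
  have h0 : IsPullback (Spec.map (CommRingCat.ofHom
        (Algebra.TensorProduct.includeRight : MvPolynomial σ A →ₐ[A] K ⊗[A] MvPolynomial σ A).toRingHom))
      (Spec.map (CommRingCat.ofHom Algebra.TensorProduct.includeLeftRingHom)) (cMap A σ) y := by
    rw [← hy]
    have hc : Spec.map (CommRingCat.ofHom (Algebra.TensorProduct.includeLeftRingHom : K →+* K ⊗[A] MvPolynomial σ A)) ≫
        Spec.map φ = Spec.map (CommRingCat.ofHom
          (Algebra.TensorProduct.includeRight : MvPolynomial σ A →ₐ[A] K ⊗[A] MvPolynomial σ A).toRingHom) ≫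
        cMap A σ := by
      simp only [cMap, ← Spec.map_comp]
      congr 1
      ext x
      exact ((Algebra.TensorProduct.includeRight : MvPolynomial σ A →ₐ[A] K ⊗[A] MvPolynomial σ A).commutes x).symm
    exact (IsPullback.of_iso_pullback ⟨hc⟩ (pullbackSpecIso A K (MvPolynomial σ A)).symm
      (pullbackSpecIso_inv_fst _ _ _) (pullbackSpecIso_inv_snd _ _ _)).flip
  haveI : IrreducibleSpace ↥(Spec (CommRingCat.of (K ⊗[A] MvPolynomial σ A))) :=
    inferInstanceAs (IrreducibleSpace (PrimeSpectrum (K ⊗[A] MvPolynomial σ A)))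
  exact Function.Surjective.irreducibleSpace (h.isoIsPullback _ _ h0).hom.homeomorph.symm.continuous
    (h.isoIsPullback _ _ h0).hom.homeomorph.symm.surjective

variable (O : Type u) [CommRing O] (T : Type u) (F : Finset T)

/-- Forgetting variables. -/
noncomputable def sF : Spec (CommRingCat.of (MvPolynomial T O)) ⟶
    Spec (CommRingCat.of (MvPolynomial {x // x ∈ F} O)) :=
  Spec.map (CommRingCat.ofHom (MvPolynomial.rename (fun x : {x // x ∈ F} => (x : T))).toRingHom)

theorem sF_qC : sF O T F ≫ cMap O {x // x ∈ F} = cMap O T := by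
  simp only [sF, cMap, ← Spec.map_comp]
  congr 1
  refine CommRingCat.hom_ext (RingHom.ext fun x => ?_)
  exact (MvPolynomial.rename (fun x : {x // x ∈ F} => (x : T))).commutes x

theorem exists_iso_sF : ∃ (σ : Type u) (e : Spec (CommRingCat.of (MvPolynomial T O)) ≅
    Spec (CommRingCat.of (MvPolynomial σ (MvPolynomial {x // x ∈ F} O)))),
    sF O T F = e.hom ≫ cMap (MvPolynomial {x // x ∈ F} O) σ := by
  classical
  refine ⟨{x // x ∉ F}, ?_⟩
  let g : T ≃ {x // x ∉ F} ⊕ {x // x ∈ F} :=
    (Equiv.sumCompl fun x => x ∈ F).symm.trans (Equiv.sumComm _ _)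
  let e0 : MvPolynomial T O ≃ₐ[O] MvPolynomial {x // x ∉ F} (MvPolynomial {x // x ∈ F} O) :=
    (MvPolynomial.renameEquiv O g).trans (MvPolynomial.sumAlgEquiv O _ _)
  have h0 : e0.toAlgHom.comp (MvPolynomial.rename (fun x : {x // x ∈ F} => (x : T))) =
      IsScalarTower.toAlgHom O (MvPolynomial {x // x ∈ F} O)
        (MvPolynomial {x // x ∉ F} (MvPolynomial {x // x ∈ F} O)) :=
    MvPolynomial.algHom_ext fun x => by
      simp [e0, g, MvPolynomial.renameEquiv_apply, Equiv.sumCompl_symm_apply_of_pos x.2]
  refine ⟨Scheme.Spec.mapIso (RingEquiv.toCommRingCatIso e0.toRingEquiv).op.symm, ?_⟩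
  simp only [sF, cMap]
  show _ = Spec.map (CommRingCat.ofHom e0.symm.toAlgHom.toRingHom) ≫ _
  rw [← Spec.map_comp]
  congr 1
  refine CommRingCat.hom_ext (RingHom.ext fun x => ?_)
  have := DFunLike.congr_fun h0 x
  exact ((congrArg e0.symm this).symm.trans (e0.symm_apply_apply _)).symm

instance : UniversallyOpen (sF O T F) := by
  obtain ⟨σ, e, h⟩ := exists_iso_sF O T F
  rw [h]
  infer_instance

instance : GeometricallyIrreducible (sF O T F) := by
  obtain ⟨σ, e, h⟩ := exists_iso_sF O T F
  rw [h]
  exact (MorphismProperty.cancel_left_of_respectsIso @GeometricallyIrreducible _ _).2 inferInstance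

variable [IsLocalRing O]

/-- The localisation map. -/
noncomputable def lT : Spec (CommRingCat.of (Gen O T)) ⟶ Spec (CommRingCat.of (MvPolynomial T O)) :=
  Spec.map (CommRingCat.ofHom (algebraMap (MvPolynomial T O) (Gen O T)))

instance : IsPreimmersion (lT O T) :=
  IsPreimmersion.of_isLocalization (prime O T).primeCompl

theorem lT_sF : lT O T ≫ sF O T F = Spec.map (CommRingCat.ofHom (toGen O T F).toRingHom) := by
  simp only [lT, sF, ← Spec.map_comp]
  congr 1

theorem exists_coeff_isUnit {m : MvPolynomial T O} (hm : m ∉ prime O T) : ∃ i, IsUnit (m.coeff i) := by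
  by_contra hc
  push Not at hc
  refine hm ?_
  rw [prime, RingHom.mem_ker]
  ext i
  rw [MvPolynomial.coeff_map, MvPolynomial.coeff_zero, IsLocalRing.residue_eq_zero_iff]
  exact (IsLocalRing.mem_maximalIdeal _).2 (hc i)

set_option maxHeartbeats 1000000 in
/-- Fibres over `O(T)` of an open family over finitely many variables with irreducible source are connected. -/
theorem connectedSpace_fibre {L : Type u} [Field L] (yO : Spec (CommRingCat.of L) ⟶ Spec (CommRingCat.of O))
    {Q : Scheme.{u}} [IrreducibleSpace ↥Q] (ω : Q ⟶ pullback (cMap O {x // x ∈ F}) yO) (hω : IsOpenMap ω)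
    {Z : Scheme.{u}} (p₁ : Z ⟶ Q) (p₂ : Z ⟶ Spec (CommRingCat.of (Gen O T)))
    (hZ : IsPullback p₁ p₂ (ω ≫ pullback.fst _ _) (Spec.map (CommRingCat.ofHom (toGen O T F).toRingHom))) :
    ConnectedSpace ↥Z := by
  let r : Q ⟶ Spec (CommRingCat.of (MvPolynomial {x // x ∈ F} O)) := ω ≫ pullback.fst _ _
  let Q' : Scheme.{u} := pullback r (sF O T F)
  let bT : Q' ⟶ Spec (CommRingCat.of (MvPolynomial T O)) := pullback.snd r (sF O T F)
  haveI : IrreducibleSpace ↥Q' := inferInstanceAs (IrreducibleSpace ↥(pullback r (sF O T F)))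
  have hw : p₁ ≫ r = (p₂ ≫ lT O T) ≫ sF O T F := by
    rw [Category.assoc, lT_sF]
    exact hZ.w
  let ζ : Z ⟶ Q' := pullback.lift p₁ (p₂ ≫ lT O T) hw
  have hζ : IsPullback ζ p₂ bT (lT O T) :=
    IsPullback.of_right (by rw [pullback.lift_fst, lT_sF]; exact hZ) (pullback.lift_snd _ _ _)
      (IsPullback.of_hasPullback r (sF O T F))
  haveI : IsPreimmersion ζ := MorphismProperty.of_isPullback hζ.flip (inferInstance : IsPreimmersion (lT O T))
  have hrange : Set.range ζ = bT ⁻¹' Set.range (lT O T) := by
    ext q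
    constructor
    · rintro ⟨w, rfl⟩
      exact ⟨p₂ w, by rw [← Scheme.Hom.comp_apply, ← hζ.w]; rfl⟩
    · rintro ⟨w, hw⟩
      obtain ⟨v, hv, -⟩ := Scheme.exists_preimage_of_isPullback hζ q w hw.symm
      exact ⟨v, hv⟩
  let η : ↥Q' := (IrreducibleSpace.isIrreducible_univ ↥Q').genericPoint
  have hη : IsGenericPoint η (Set.univ : Set ↥Q') := by
    simpa using (IrreducibleSpace.isIrreducible_univ ↥Q').isGenericPoint_genericPoint_closure
  have hrl : Set.range (lT O T) =
      {p : PrimeSpectrum (MvPolynomial T O) | Disjoint ((prime O T).primeCompl : Set (MvPolynomial T O)) (p.asIdeal : Set (MvPolynomial T O))} :=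
    PrimeSpectrum.localization_comap_range (Gen O T) (prime O T).primeCompl
  have hηZ : η ∈ Set.range ζ := by
    rw [hrange, Set.mem_preimage, hrl]
    refine Set.disjoint_left.2 fun m hm hmη => ?_
    -- a point of `Q'` in the basic open of `m`
    let U : (Spec (CommRingCat.of (MvPolynomial T O))).Opens := PrimeSpectrum.basicOpen m
    have hU : (bT ⁻¹' (U : Set ↥(Spec (CommRingCat.of (MvPolynomial T O))))).Nonempty := by
      let PP : Scheme.{u} := pullback (cMap O T) yO
      haveI : IrreducibleSpace ↥(Spec (CommRingCat.of L)) := inferInstanceAs (IrreducibleSpace (PrimeSpectrum L))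
      haveI : IrreducibleSpace ↥PP := inferInstanceAs (IrreducibleSpace ↥(pullback (cMap O T) yO))
      let pr : PP ⟶ pullback (cMap O {x // x ∈ F}) yO :=
        pullback.lift (pullback.fst _ _ ≫ sF O T F) (pullback.snd _ _)
          (by rw [Category.assoc, sF_qC, pullback.condition])
      let k : Spec (CommRingCat.of (MvPolynomial {x // x ∈ F} O)) ⟶ Spec (CommRingCat.of (MvPolynomial T O)) :=
        Spec.map (CommRingCat.ofHom (MvPolynomial.killCompl (R := O)
          (f := fun x : {x // x ∈ F} => (x : T)) Subtype.val_injective).toRingHom)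
      have hk : k ≫ cMap O T = cMap O {x // x ∈ F} := by
        simp only [k, cMap, ← Spec.map_comp]
        congr 1
        refine CommRingCat.hom_ext (RingHom.ext fun x => ?_)
        exact (MvPolynomial.killCompl (R := O) (f := fun x : {x // x ∈ F} => (x : T)) Subtype.val_injective).commutes x
      have hk' : k ≫ sF O T F = 𝟙 _ := by
        simp only [k, sF, ← Spec.map_comp, ← Spec.map_id]
        congr 1
        refine CommRingCat.hom_ext (RingHom.ext fun x => ?_)
        exact MvPolynomial.killCompl_rename_app Subtype.val_injective x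
      let sec : pullback (cMap O {x // x ∈ F}) yO ⟶ PP :=
        pullback.lift (pullback.fst _ _ ≫ k) (pullback.snd _ _)
          (by rw [Category.assoc, hk, pullback.condition])
      have hsec : sec ≫ pr = 𝟙 _ := by
        apply pullback.hom_ext
        · simp only [sec, pr, Category.assoc, pullback.lift_fst, pullback.lift_fst_assoc, hk',
            Category.comp_id, Category.id_comp]
        · simp only [sec, pr, Category.assoc, pullback.lift_snd, Category.id_comp]
      have h1 : (pr ⁻¹' Set.range ω).Nonempty := by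
        obtain ⟨q⟩ : Nonempty ↥Q := inferInstance
        exact ⟨sec (ω q), q, by rw [← Scheme.Hom.comp_apply, hsec]; rfl⟩
      let φ := (Spec.preimage yO).hom
      let PL : Scheme.{u} := Spec (CommRingCat.of (MvPolynomial T L))
      let toPP : PL ⟶ PP := pullback.lift (Spec.map (CommRingCat.ofHom (MvPolynomial.map φ))) (cMap L T) (by
        simp only [cMap]
        conv_rhs => rw [← Spec.map_preimage yO]
        simp only [← Spec.map_comp]
        congr 1
        ext x
        simp [φ])
      have h2 : (pullback.fst (cMap O T) yO ⁻¹' (U : Set ↥(Spec (CommRingCat.of (MvPolynomial T O))))).Nonempty := by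
        refine ⟨toPP (⟨⊥, Ideal.isPrime_bot⟩ : PrimeSpectrum (MvPolynomial T L)), ?_⟩
        rw [Set.mem_preimage, ← Scheme.Hom.comp_apply, pullback.lift_fst]
        show MvPolynomial.map φ m ∉ (⊥ : Ideal (MvPolynomial T L))
        obtain ⟨i, hi⟩ := exists_coeff_isUnit O T hm
        intro h0
        have := congrArg (MvPolynomial.coeff i) (Ideal.mem_bot.1 h0)
        rw [MvPolynomial.coeff_map, MvPolynomial.coeff_zero] at this
        exact (hi.map φ).ne_zero this
      obtain ⟨x, hxU, q, hq⟩ := nonempty_preirreducible_inter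
        (U.2.preimage (pullback.fst (cMap O T) yO).continuous) (hω.isOpen_range.preimage pr.continuous) h2 h1
      obtain ⟨q', -, hq'⟩ := Scheme.Pullback.exists_preimage_pullback q (pullback.fst (cMap O T) yO x)
        (f := r) (g := sF O T F) (by
          rw [show r q = pullback.fst (cMap O {x // x ∈ F}) yO (ω q) from rfl, hq,
            ← Scheme.Hom.comp_apply, pullback.lift_fst, Scheme.Hom.comp_apply])
      exact ⟨q', by show bT q' ∈ U; rw [show bT q' = _ from hq']; exact hxU⟩
    have := hη.mem_open_set_iff (U.2.preimage bT.continuous) |>.2 (by simpa using hU)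
    exact this hmη
  have hc : _root_.IsPreconnected (Set.range ζ) := _root_.IsPreconnected.subset_closure isPreconnected_singleton
    (Set.singleton_subset_iff.2 hηZ) (by rw [hη.def]; exact Set.subset_univ _)
  haveI : PreconnectedSpace ↥Z :=
    ⟨(ζ.isEmbedding.isInducing.isPreconnected_image).1 (Set.image_univ (f := ζ) ▸ hc)⟩
  haveI : Nonempty ↥Z := by
    obtain ⟨w, -⟩ := hηZ
    exact ⟨w⟩
  exact ⟨inferInstance⟩

end Groth.Agent.PurTrans
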