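import Groth.Agent.PurTrans.Open
import Groth.Agent.PurTrans.Descend
import Groth.Agent.PurTrans.Fibre
import Groth.Agent.DescSh.SmoothFactor
import Groth.Agent.StrictSSLib.Component
import Groth.Agent.S2280

/-!
Base changes of `Spec O(T) ⟶ Spec O` factor locally through morphisms with connected geometric fibres.
-/

set_option autoImplicit false
set_option linter.style.haveILetI false
set_option backward.isDefEq.respectTransparency.types false

universe u

open CategoryTheory CategoryTheory.Limits AlgebraicGeometry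

namespace Groth.Agent.PurTrans

theorem exists_graph {X V S : Scheme.{u}} (a : X ⟶ V) (v : V ⟶ S) [Etale v] :
    ∃ Γ : X ⟶ pullback (a ≫ v) v, Etale Γ ∧ Γ ≫ pullback.snd (a ≫ v) v = a := by
  let Γ : X ⟶ pullback (a ≫ v) v := pullback.lift (𝟙 _) a (Category.id_comp _)
  haveI : Etale (pullback.fst (a ≫ v) v) := MorphismProperty.pullback_fst _ _ ‹Etale v›
  haveI : Etale (Γ ≫ pullback.fst (a ≫ v) v) := by rw [pullback.lift_fst]; infer_instance
  exact ⟨Γ, Etale.of_comp Γ (pullback.fst (a ≫ v) v), pullback.lift_snd _ _ _⟩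

theorem universallyOpen_of_comp_etale {X V S : Scheme.{u}} (a : X ⟶ V) (v : V ⟶ S) [Etale v]
    [UniversallyOpen (a ≫ v)] : UniversallyOpen a := by
  obtain ⟨Γ, hΓ, h⟩ := exists_graph a v
  haveI : UniversallyOpen Γ := inferInstance
  rw [← h]
  infer_instance

theorem smooth_of_comp_etale {X V S : Scheme.{u}} (a : X ⟶ V) (v : V ⟶ S) [Etale v]
    [Smooth (a ≫ v)] : Smooth a := by
  obtain ⟨Γ, hΓ, h⟩ := exists_graph a v
  haveI : Smooth (pullback.snd (a ≫ v) v) := MorphismProperty.pullback_snd _ _ ‹Smooth (a ≫ v)›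
  rw [← h]
  infer_instance

variable {O : Type u} [CommRing O] [IsLocalRing O] {S : Scheme.{u}} (b : S ⟶ Spec (CommRingCat.of O))

theorem πF_isPullback (T : Type u) (F : Finset T) :
    IsPullback (πF b T F) (pullback.snd b (qC O (Gen O T)))
      (pullback.snd b (qC O (MvPolynomial {x // x ∈ F} O)))
      (Spec.map (CommRingCat.ofHom (toGen O T F).toRingHom)) := by
  have h : Spec.map (CommRingCat.ofHom (toGen O T F).toRingHom) ≫ qC O (MvPolynomial {x // x ∈ F} O) =
      qC O (Gen O T) := by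
    simp only [qC, ← Spec.map_comp]
    congr 1
    exact CommRingCat.hom_ext (toGen O T F).comp_algebraMap
  refine IsPullback.of_right ?_ (πF_snd b T F) (IsPullback.of_hasPullback b
    (qC O (MvPolynomial {x // x ∈ F} O)))
  rw [h, πF_fst]
  exact IsPullback.of_hasPullback b (qC O (Gen O T))

set_option maxHeartbeats 1000000 in
/-- The fibres over geometric points are connected. -/
theorem connectedSpace_geom (T : Type u) (F : Finset T)
    (N₁ : (pullback b (qC O (MvPolynomial {x // x ∈ F} O))).Etale) (V : S.Etale) (a : N₁.left ⟶ V.left)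
    (ha : a ≫ V.hom = N₁.hom ≫ pullback.fst b (qC O (MvPolynomial {x // x ∈ F} O)))
    [GeometricallyConnected a] {K : Type u} [Field K] (y : Spec (CommRingCat.of K) ⟶ V.left)
    {Z : Scheme.{u}} (fZ : Z ⟶ pullback N₁.hom (πF b T F)) (sZ : Z ⟶ Spec (CommRingCat.of K))
    (hZ : IsPullback fZ sZ (pullback.fst N₁.hom (πF b T F) ≫ a) y) : ConnectedSpace ↥Z := by
  let NL : Scheme.{u} := N₁.left
  let hN : NL ⟶ pullback b (qC O (MvPolynomial {x // x ∈ F} O)) := N₁.hom
  let VL : Scheme.{u} := V.left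
  let hV : VL ⟶ S := V.hom
  let a' : NL ⟶ VL := a
  haveI : Etale hN := N₁.prop
  haveI : Etale hV := V.prop
  let qF : Spec (CommRingCat.of (MvPolynomial {x // x ∈ F} O)) ⟶ Spec (CommRingCat.of O) :=
    qC O (MvPolynomial {x // x ∈ F} O)
  haveI : Smooth qF := (HasRingHomProperty.Spec_iff (P := @Smooth)).2
    (RingHom.smooth_algebraMap.2 ⟨inferInstance, inferInstance⟩)
  haveI : Smooth (pullback.fst b qF) := MorphismProperty.pullback_fst _ _ ‹Smooth qF›
  haveI : Smooth (a' ≫ hV) := by
    rw [show a' ≫ hV = hN ≫ pullback.fst b qF from ha]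
    exact inferInstanceAs (Smooth (hN ≫ pullback.fst b qF))
  haveI : Smooth a' := smooth_of_comp_etale a' hV
  let Q : Scheme.{u} := pullback a' y
  haveI : Smooth (pullback.snd a' y) := MorphismProperty.pullback_snd _ _ ‹Smooth a'›
  haveI : GeometricallyConnected a' := ‹GeometricallyConnected a›
  haveI : ConnectedSpace ↥Q :=
    GeometricallyConnected.geometrically_connectedSpace _ _ _ (IsPullback.of_hasPullback a' y)
  haveI : IsLocallyNoetherian Q := LocallyOfFiniteType.isLocallyNoetherian (pullback.snd a' y)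
  haveI : IrreducibleSpace ↥Q := by
    haveI : IsIntegral Q := (Groth.Agent.S2280.result Q).2.mpr
      ⟨inferInstance, StrictSSLib.isDomain_stalk_of_smooth (pullback.snd a' y)⟩
    infer_instance
  let yS : Spec (CommRingCat.of K) ⟶ S := y ≫ hV
  -- the open map to the fibre of affine space
  let Q₀ : Scheme.{u} := pullback (a' ≫ hV) yS
  let PS : Scheme.{u} := pullback (pullback.fst b qF) yS
  let m₀ : Q ⟶ Q₀ := pullback.map a' y (a' ≫ hV) (y ≫ hV) _ _ hV (Category.id_comp _).symm (Category.id_comp _).symm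
  haveI : IsOpenImmersion (pullback.diagonal hV) := inferInstance
  haveI : IsOpenImmersion m₀ :=
    MorphismProperty.of_isPullback (pullback_map_diagonal_isPullback a' y hV)
      ‹IsOpenImmersion (pullback.diagonal hV)›
  let m₁ : Q₀ ⟶ PS := pullback.lift (pullback.fst _ _ ≫ hN) (pullback.snd _ _) (by
    rw [Category.assoc, show hN ≫ pullback.fst b qF = a' ≫ hV from ha.symm, pullback.condition])
  have hm₁ : IsPullback (pullback.fst (a' ≫ hV) yS) m₁ hN (pullback.fst (pullback.fst b qF) yS) := by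
    refine IsPullback.of_bot ?_ (pullback.lift_fst _ _ _).symm (IsPullback.of_hasPullback _ _)
    rw [show hN ≫ pullback.fst b qF = a' ≫ hV from ha.symm, pullback.lift_snd]
    exact IsPullback.of_hasPullback (a' ≫ hV) yS
  haveI : Etale m₁ := MorphismProperty.of_isPullback hm₁ ‹Etale hN›
  have hPS : IsPullback (pullback.fst (pullback.fst b qF) yS ≫ pullback.snd b qF)
      (pullback.snd (pullback.fst b qF) yS) (cMap O {x // x ∈ F}) (yS ≫ b) :=
    (IsPullback.of_hasPullback _ _).paste_horiz (IsPullback.of_hasPullback b qF).flip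
  let ω : Q ⟶ pullback (cMap O {x // x ∈ F}) (yS ≫ b) := m₀ ≫ m₁ ≫ hPS.isoPullback.hom
  have hω : IsOpenMap ω := ω.isOpenMap
  have hωfst : ω ≫ pullback.fst _ _ = (pullback.fst a' y ≫ hN) ≫ pullback.snd b qF := by
    simp only [ω, m₁, m₀, Category.assoc, IsPullback.isoPullback_hom_fst, pullback.lift_fst_assoc]
    exact (Category.assoc _ _ _).symm.trans
      (congrArg (· ≫ hN ≫ pullback.snd b qF) ((pullback.lift_fst _ _ _).trans (Category.comp_id _)))
  let pN : pullback hN (πF b T F) ⟶ NL := pullback.fst hN (πF b T F)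
  let ζ : Z ⟶ Q := pullback.lift (fZ ≫ pN) sZ ((Category.assoc _ _ _).trans hZ.w)
  have h1 : IsPullback ζ fZ (pullback.fst a' y) pN :=
    (IsPullback.of_bot (v₁₁ := ζ) (v₂₁ := pullback.snd a' y) (v₁₂ := pN) (v₂₂ := a')
      (h₂₁ := pullback.fst a' y) (by rw [pullback.lift_snd]; exact hZ) (pullback.lift_fst _ _ _).symm
      (IsPullback.of_hasPullback a' y)).flip
  have h2 : IsPullback pN (pullback.snd hN (πF b T F) ≫ pullback.snd b (qC O (Gen O T)))
      (hN ≫ pullback.snd b qF) (Spec.map (CommRingCat.ofHom (toGen O T F).toRingHom)) :=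
    (IsPullback.of_hasPullback hN (πF b T F)).paste_vert (πF_isPullback b T F)
  have h3 : IsPullback ζ (fZ ≫ pullback.snd hN (πF b T F) ≫ pullback.snd b (qC O (Gen O T)))
      (ω ≫ pullback.fst _ _) (Spec.map (CommRingCat.ofHom (toGen O T F).toRingHom)) := by
    rw [hωfst, Category.assoc]
    exact h1.paste_vert h2
  exact connectedSpace_fibre O T F (yS ≫ b) ω hω ζ _ h3

set_option maxHeartbeats 1000000 in
/-- Base changes of `Spec O(T) ⟶ Spec O` factor locally, when `O` has one prime. -/
theorem hasFactor [Subsingleton ↥(Spec (CommRingCat.of O))] (T : Type u) :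
    DescSh.BCConn.HasFactor (pullback.fst b (qC O (Gen O T))) := by
  intro N z
  obtain ⟨F, NA, j, z₀, hz₀⟩ := exists_descent b T N z
  let qF : Spec (CommRingCat.of (MvPolynomial {x // x ∈ F} O)) ⟶ Spec (CommRingCat.of O) :=
    qC O (MvPolynomial {x // x ∈ F} O)
  haveI : Smooth qF := (HasRingHomProperty.Spec_iff (P := @Smooth)).2
    (RingHom.smooth_algebraMap.2 ⟨inferInstance, inferInstance⟩)
  haveI : Smooth (pullback.fst b qF) := MorphismProperty.pullback_fst _ _ ‹Smooth qF›
  let zA : NA.left := pullback.fst NA.hom (πF b T F) z₀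
  obtain ⟨N₁A, j₁, z₁, V, a, hz₁, ha, hgc, hus⟩ := DescSh.SmoothFactor.hasFactor (pullback.fst b qF) NA zA
  let N₁ := (EtCoh.bc (πF b T F)).obj N₁A
  let m := (EtCoh.bc (πF b T F)).map j₁
  let m' : pullback N₁A.hom (πF b T F) ⟶ pullback NA.hom (πF b T F) := m.left
  have hm1 : m' ≫ pullback.fst NA.hom (πF b T F) = pullback.fst N₁A.hom (πF b T F) ≫ j₁.left :=
    pullback.lift_fst _ _ _
  have hm2 : m' ≫ pullback.snd NA.hom (πF b T F) = pullback.snd N₁A.hom (πF b T F) :=
    pullback.lift_snd _ _ _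
  have hmsq : IsPullback (pullback.fst N₁A.hom (πF b T F)) m' j₁.left (pullback.fst NA.hom (πF b T F)) := by
    refine IsPullback.of_bot ?_ hm1.symm (IsPullback.of_hasPullback NA.hom (πF b T F))
    rw [hm2, MorphismProperty.Over.w j₁]
    exact IsPullback.of_hasPullback N₁A.hom (πF b T F)
  obtain ⟨w, -, hw⟩ := Scheme.exists_preimage_of_isPullback hmsq z₁ z₀ hz₁
  let pA : pullback N₁A.hom (πF b T F) ⟶ N₁A.left := pullback.fst N₁A.hom (πF b T F)
  let a₁ : pullback N₁A.hom (πF b T F) ⟶ V.left := pA ≫ a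
  let VL : Scheme.{u} := V.left
  let hV : VL ⟶ S := V.hom
  haveI : Etale hV := V.prop
  let a₂ : pullback N₁A.hom (πF b T F) ⟶ VL := a₁
  have hcomp : a₂ ≫ hV = pullback.snd N₁A.hom (πF b T F) ≫ pullback.fst b (qC O (Gen O T)) :=
    (Category.assoc _ _ _).trans ((congrArg (pA ≫ ·) ha).trans ((Category.assoc _ _ _).symm.trans
      ((congrArg (· ≫ pullback.fst b qF) pullback.condition).trans ((Category.assoc _ _ _).trans
        (congrArg (_ ≫ ·) (πF_fst b T F))))))
  haveI : UniversallyOpen (a₂ ≫ hV) := by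
    haveI : Etale (pullback.snd N₁A.hom (πF b T F)) := MorphismProperty.pullback_snd _ _ N₁A.prop
    haveI : UniversallyOpen (pullback.fst b (qC O (Gen O T))) := by
      haveI : UniversallyOpen (qC O (Gen O T)) := universallyOpen_of_subsingleton _
      infer_instance
    rw [hcomp]
    infer_instance
  haveI : UniversallyOpen a₂ := universallyOpen_of_comp_etale a₂ hV
  have hgc' : GeometricallyConnected a₂ :=
    ⟨fun K _ y Z fZ sZ hZ => connectedSpace_geom b T F N₁A V a ha y fZ sZ hZ⟩
  haveI : Surjective a₂ := ⟨fun v => by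
    haveI := hgc'.geometrically_connectedSpace _ _ _
      (IsPullback.of_hasPullback a₂ (VL.fromSpecResidueField v))
    obtain ⟨t⟩ : Nonempty ↥(pullback a₂ (VL.fromSpecResidueField v)) := inferInstance
    refine ⟨pullback.fst a₂ (VL.fromSpecResidueField v) t, ?_⟩
    rw [← Scheme.Hom.comp_apply, pullback.condition, Scheme.Hom.comp_apply]
    exact Scheme.fromSpecResidueField_apply _ _⟩
  refine ⟨N₁, m ≫ j, w, V, a₁, ?_, hcomp, hgc', DescSh.isUnivSubmersive_of_universallyOpen a₂⟩
  show j.left (m' w) = z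
  rw [hw]
  exact hz₀

end Groth.Agent.PurTrans
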