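import Groth.Agent.PurTrans.Ring
import Mathlib.RingTheory.AlgebraicIndependent.TranscendenceBasis
import Mathlib.RingTheory.IntegralClosure.IsIntegralClosure.Basic
import Mathlib.RingTheory.Spectrum.Prime.Topology

/-!
A field over a local ring with one prime is integral over some `O(T)`.
-/

set_option autoImplicit false
set_option linter.style.haveILetI false

universe u

namespace Groth.Agent.PurTrans

theorem eq_maximalIdeal {O : Type u} [CommRing O] [IsLocalRing O] [Subsingleton (PrimeSpectrum O)] (I : Ideal O)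
    [hI : I.IsPrime] : I = IsLocalRing.maximalIdeal O :=
  congrArg PrimeSpectrum.asIdeal (Subsingleton.elim (⟨I, hI⟩ : PrimeSpectrum O)
    ⟨IsLocalRing.maximalIdeal O, (IsLocalRing.maximalIdeal.isMaximal O).isPrime⟩)

theorem isLocalHom_of_field {O K : Type u} [CommRing O] [IsLocalRing O] [Subsingleton (PrimeSpectrum O)]
    [Field K] (φ : O →+* K) : IsLocalHom φ := by
  refine ⟨fun r hr => ?_⟩
  by_contra h
  haveI := RingHom.ker_isPrime φ
  have hk : RingHom.ker φ = IsLocalRing.maximalIdeal O := eq_maximalIdeal _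
  have : r ∈ RingHom.ker φ := by
    rw [hk]
    exact (IsLocalRing.mem_maximalIdeal _).2 h
  exact hr.ne_zero this

theorem subsingleton_gen (O T : Type u) [CommRing O] [IsLocalRing O] [Subsingleton (PrimeSpectrum O)] :
    Subsingleton (PrimeSpectrum (Gen O T)) := by
  suffices h : ∀ P : PrimeSpectrum (Gen O T), IsLocalRing.maximalIdeal (Gen O T) ≤ P.asIdeal by
    refine ⟨fun P Q => PrimeSpectrum.ext ?_⟩
    exact (le_antisymm (IsLocalRing.le_maximalIdeal P.isPrime.ne_top) (h P)).trans
      (le_antisymm (h Q) (IsLocalRing.le_maximalIdeal Q.isPrime.ne_top))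
  intro P
  haveI := P.isPrime
  rw [← Localization.AtPrime.map_eq_maximalIdeal]
  have hp : prime O T = (IsLocalRing.maximalIdeal O).map MvPolynomial.C :=
    (MvPolynomial.ker_map _).trans (congrArg (Ideal.map MvPolynomial.C) IsLocalRing.ker_residue)
  refine Ideal.map_le_iff_le_comap.2 (hp.le.trans ?_)
  refine Ideal.map_le_iff_le_comap.2 ?_
  rw [Ideal.comap_comap]
  exact (eq_maximalIdeal (P.asIdeal.comap ((algebraMap (MvPolynomial T O) (Gen O T)).comp MvPolynomial.C))).ge

set_option maxHeartbeats 1000000 in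
/-- A field over a local ring with one prime is integral over some `O(T)`. -/
theorem exists_gen_integral {O K : Type u} [CommRing O] [IsLocalRing O] [Subsingleton (PrimeSpectrum O)]
    [Field K] (φ : O →+* K) :
    ∃ (T : Type u) (ψ : Gen O T →+* K), ψ.comp (algebraMap O (Gen O T)) = φ ∧ ψ.IsIntegral := by
  classical
  haveI := isLocalHom_of_field φ
  let k : Type u := IsLocalRing.ResidueField O
  letI : Algebra k K := (IsLocalRing.ResidueField.lift φ).toAlgebra
  obtain ⟨s, hs⟩ := exists_isTranscendenceBasis k K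
  refine ⟨↥s, ?_⟩
  let ψ₀ : MvPolynomial (↥s) O →+* K :=
    (MvPolynomial.aeval (R := k) ((↑) : s → K)).toRingHom.comp (MvPolynomial.map (IsLocalRing.residue O))
  have hu : ∀ m : (prime O ↥s).primeCompl, IsUnit (ψ₀ m) := fun m =>
    isUnit_iff_ne_zero.2 fun h => m.2 ((RingHom.mem_ker).2 (hs.1.eq_zero_of_aeval_eq_zero _ h))
  let ψ : Gen O ↥s →+* K := IsLocalization.lift (M := (prime O ↥s).primeCompl) hu
  have hψ : ∀ x, ψ (algebraMap _ _ x) = ψ₀ x := fun x => IsLocalization.lift_eq hu x
  have hψC : ψ.comp (algebraMap O (Gen O ↥s)) = φ := RingHom.ext fun r => by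
    rw [RingHom.comp_apply, IsScalarTower.algebraMap_apply O (MvPolynomial (↥s) O) (Gen O ↥s) r, hψ]
    simp only [ψ₀, RingHom.comp_apply, MvPolynomial.algebraMap_eq, MvPolynomial.map_C]
    exact ((MvPolynomial.aeval (R := k) ((↑) : s → K)).commutes _).trans
      (IsLocalRing.ResidueField.lift_residue_apply φ r)
  refine ⟨ψ, hψC, ?_⟩
  haveI : Subsingleton (PrimeSpectrum (Gen O ↥s)) := subsingleton_gen O ↥s
  haveI : IsLocalHom ψ := isLocalHom_of_field ψ
  let χ : IsLocalRing.ResidueField (Gen O ↥s) →+* K := IsLocalRing.ResidueField.lift ψ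
  have hχ : ∀ x, χ (IsLocalRing.residue _ x) = ψ x := IsLocalRing.ResidueField.lift_residue_apply ψ
  let A : Subring K := χ.range
  have hadj : ∀ z ∈ Algebra.adjoin k (Set.range ((↑) : s → K)), z ∈ A := by
    intro z hz
    induction hz using Algebra.adjoin_induction with
    | mem x hx =>
      obtain ⟨i, rfl⟩ := hx
      exact ⟨IsLocalRing.residue _ (algebraMap _ _ (MvPolynomial.X i)), by rw [hχ, hψ]; simp [ψ₀]⟩
    | algebraMap r =>
      obtain ⟨r, rfl⟩ := IsLocalRing.residue_surjective r
      exact ⟨IsLocalRing.residue _ (algebraMap O _ r), by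
        rw [hχ, ← RingHom.comp_apply, hψC]; exact (IsLocalRing.ResidueField.lift_residue_apply φ r).symm⟩
    | add x y _ _ hx hy => exact add_mem hx hy
    | mul x y _ _ hx hy => exact mul_mem hx hy
  have hint : χ.IsIntegral := by
    letI : Algebra (IsLocalRing.ResidueField (Gen O ↥s)) K := χ.toAlgebra
    intro z
    haveI := hs.isAlgebraic
    obtain ⟨p, hp0, hpz⟩ := Algebra.IsAlgebraic.isAlgebraic (R := Algebra.adjoin k (Set.range ((↑) : s → K))) z
    let i := algebraMap (Algebra.adjoin k (Set.range ((↑) : s → K))) K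
    obtain ⟨q, hq⟩ := (Polynomial.mem_lifts (f := χ) _).1 (mem_lifts_of_forall χ (p.map i) fun c hc => by
      obtain ⟨n, -, rfl⟩ := Polynomial.mem_coeffs_iff.1 hc
      rw [Polynomial.coeff_map]
      exact hadj _ (p.coeff n).2)
    refine isAlgebraic_iff_isIntegral.1 ⟨q, fun h0 => hp0 ?_, ?_⟩
    · rw [h0, Polynomial.map_zero] at hq
      exact Polynomial.map_injective i Subtype.val_injective (hq.symm.trans (Polynomial.map_zero i).symm)
    · rw [Polynomial.aeval_def, Polynomial.eval₂_eq_eval_map] at hpz ⊢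
      rw [show (algebraMap (IsLocalRing.ResidueField (Gen O ↥s)) K) = χ from rfl, hq]
      exact hpz
  have hcomp : ψ = χ.comp (IsLocalRing.residue _) := RingHom.ext fun x => (hχ x).symm
  rw [hcomp]
  exact RingHom.IsIntegral.trans _ _ (RingHom.isIntegral_of_surjective _ IsLocalRing.residue_surjective) hint

end Groth.Agent.PurTrans
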