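import Mathlib.AlgebraicGeometry.Morphisms.UniversallyOpen
import Mathlib.AlgebraicGeometry.Morphisms.ClosedImmersion
import Mathlib.AlgebraicGeometry.Morphisms.UniversallyClosed
import Mathlib.RingTheory.LocalRing.ResidueField.Basic

/-!
Morphisms to schemes with discrete underlying space are universally open.
-/

set_option autoImplicit false
set_option linter.style.haveILetI false

universe u

open CategoryTheory CategoryTheory.Limits AlgebraicGeometry MorphismProperty

namespace Groth.Agent.PurTrans

/-- Universal openness descends along surjective universally closed morphisms. -/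
theorem universallyOpen_of_surjective_closed {X Y Y' : Scheme.{u}} (f : X ⟶ Y) (e : Y' ⟶ Y) [Surjective e]
    [UniversallyClosed e] [UniversallyOpen (pullback.fst e f)] : UniversallyOpen f := by
  refine ⟨universally_mk' _ _ fun {T} g _ s hs ↦ ?_⟩
  let p := pullback.fst (pullback.fst e g) (pullback.fst e f)
  let r : pullback (pullback.fst e g) (pullback.fst e f) ⟶ pullback g f :=
    pullback.map _ _ _ _ (pullback.snd _ _) (pullback.snd _ _) e (pullback.condition ..)
      (pullback.condition ..)
  have : IsOpen ((pullback.snd e g).base ⁻¹' ((pullback.fst g f).base '' s)) := by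
    rw [← Scheme.image_preimage_eq_of_isPullback (isPullback_map_snd_snd ..)]
    exact p.isOpenMap _ (hs.preimage r.continuous)
  rwa [((pullback.snd e g).isClosedMap.isQuotientMap (pullback.snd e g).continuous
    (pullback.snd e g).surjective).isOpen_preimage] at this

/-- Morphisms to a one-point affine scheme are universally open. -/
theorem universallyOpen_of_subsingleton {X : Scheme.{u}} {O : Type u} [CommRing O]
    [Subsingleton ↥(Spec (CommRingCat.of O))] (f : X ⟶ Spec (CommRingCat.of O)) : UniversallyOpen f := by
  rcases isEmpty_or_nonempty ↥(Spec (CommRingCat.of O)) with h | ⟨⟨p⟩⟩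
  · refine ⟨universally_mk' _ _ fun {T} g _ s hs ↦ ?_⟩
    have : IsEmpty T := g.base.hom.1.isEmpty
    rw [Set.eq_empty_of_isEmpty ((pullback.fst g f).base '' s)]
    exact isOpen_empty
  · let e : Spec (CommRingCat.of (O ⧸ p.asIdeal)) ⟶ Spec (CommRingCat.of O) :=
      Spec.map (CommRingCat.ofHom (Ideal.Quotient.mk p.asIdeal))
    haveI : IsClosedImmersion e := IsClosedImmersion.spec_of_surjective _ Ideal.Quotient.mk_surjective
    haveI := p.isPrime
    haveI : IsDomain (CommRingCat.of (O ⧸ p.asIdeal)) := inferInstanceAs (IsDomain (O ⧸ p.asIdeal))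
    haveI : Nonempty ↥(Spec (CommRingCat.of (O ⧸ p.asIdeal))) :=
      inferInstanceAs (Nonempty (PrimeSpectrum (O ⧸ p.asIdeal)))
    haveI : Surjective e := ⟨Function.surjective_to_subsingleton _⟩
    haveI : Subsingleton ↥(Spec (CommRingCat.of (O ⧸ p.asIdeal))) :=
      e.isClosedEmbedding.injective.subsingleton
    haveI : UniversallyOpen (pullback.fst e f) := inferInstance
    exact universallyOpen_of_surjective_closed f e

/-- Every point of a discrete scheme has a one-point affine neighbourhood. -/
theorem exists_local_chart {Y : Scheme.{u}} [DiscreteTopology ↥Y] (y : Y) :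
    ∃ (R : CommRingCat.{u}) (e : Spec R ⟶ Y), IsOpenImmersion e ∧ y ∈ Set.range e ∧
      Subsingleton ↥(Spec R) := by
  obtain ⟨R, e, he, hy, hsub⟩ := Scheme.exists_affine_mem_range_and_range_subset (x := y)
    (U := ⟨{y}, isOpen_discrete _⟩) rfl
  refine ⟨R, e, he, hy, ⟨fun a b => e.isOpenEmbedding.injective ?_⟩⟩
  exact (Set.mem_singleton_iff.1 (hsub ⟨a, rfl⟩)).trans (Set.mem_singleton_iff.1 (hsub ⟨b, rfl⟩)).symm

/-- Morphisms to a discrete scheme are universally open. -/
theorem universallyOpen_of_discrete {X Y : Scheme.{u}} [DiscreteTopology ↥Y] (f : X ⟶ Y) :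
    UniversallyOpen f := by
  choose R e he hy hs using exists_local_chart (Y := Y)
  have := he
  refine (IsZariskiLocalAtTarget.iff_of_iSup_eq_top (P := @UniversallyOpen) (fun y : Y => (e y).opensRange)
    (eq_top_iff.2 fun y _ => TopologicalSpace.Opens.mem_iSup.2 ⟨y, hy y⟩)).2 fun y => ?_
  have := hs y
  exact ((MorphismProperty.arrow_mk_iso_iff @UniversallyOpen (morphismRestrictOpensRange f (e y)))).2
    (universallyOpen_of_subsingleton (O := R y) (pullback.snd f (e y)))

end Groth.Agent.PurTrans
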