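import Mathlib.RingTheory.Etale.StandardEtale
import Mathlib.RingTheory.Localization.Away.Basic
import Mathlib.RingTheory.Localization.Integer
import Mathlib.RingTheory.Localization.BaseChange
import Mathlib.Algebra.MvPolynomial.Rename
import Mathlib.Algebra.Polynomial.Lifts
import Mathlib.RingTheory.LocalRing.ResidueField.Basic
import Mathlib.RingTheory.Localization.AtPrime.Basic
import Mathlib.RingTheory.MvPolynomial.Basic

/-!
Standard étale algebras over the localisation of an algebra of polynomials in arbitrarily many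
variables come from finitely many variables.
-/

set_option autoImplicit false
set_option linter.style.haveILetI false

universe u

open Polynomial
open scoped TensorProduct

namespace Groth.Agent.PurTrans

theorem mem_lifts_of_forall {A B : Type*} [CommRing A] [CommRing B] (i : A →+* B) (p : B[X])
    (h : ∀ c ∈ p.coeffs, c ∈ Set.range i) : p ∈ lifts i := by
  rw [lifts_iff_coeff_lifts]
  intro n
  by_cases hn : p.coeff n = 0
  · exact ⟨0, by rw [map_zero, hn]⟩
  · exact h _ (Polynomial.mem_coeffs_iff.2 ⟨n, Polynomial.mem_support_iff.2 hn, rfl⟩)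

theorem standardEtalePair_ext {A : Type*} [CommRing A] {P Q : StandardEtalePair A} (hf : P.f = Q.f)
    (hg : P.g = Q.g) : P = Q := by
  cases P; cases Q; cases hf; cases hg; rfl

/-- A standard étale pair over a localisation comes from the localisation at one element. -/
theorem exists_pair_away {A R' : Type*} [CommRing A] [CommRing R'] [Algebra A R'] (M : Submonoid A)
    [IsLocalization M R'] (P : StandardEtalePair R') :
    ∃ d ∈ M, ∃ P₀ : StandardEtalePair (Localization.Away d),
      ∀ ρ : Localization.Away d →+* R', ρ.comp (algebraMap A _) = algebraMap A R' → P₀.map ρ = P := by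
  classical
  obtain ⟨p₁, p₂, n, e⟩ := P.cond
  let S : Finset R' := P.f.coeffs ∪ P.g.coeffs ∪ p₁.coeffs ∪ p₂.coeffs
  obtain ⟨⟨b, hb⟩, hbS⟩ := IsLocalization.exist_integer_multiples_of_finset M S
  have hbu : IsUnit (algebraMap A R' b) := IsLocalization.map_units R' ⟨b, hb⟩
  let ρ₁ : Localization.Away b →+* R' := IsLocalization.Away.lift b hbu
  have hρ₁ : ∀ a, ρ₁ (algebraMap A _ a) = algebraMap A R' a := fun a => IsLocalization.Away.lift_eq b hbu a
  have hrange : ∀ c ∈ S, c ∈ Set.range ρ₁ := by
    intro c hc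
    obtain ⟨a, ha⟩ := hbS c hc
    refine ⟨IsLocalization.mk' _ a (⟨b, Submonoid.mem_powers b⟩ : Submonoid.powers b), ?_⟩
    refine hbu.mul_left_cancel ?_
    rw [← hρ₁ b, ← map_mul, IsLocalization.mk'_spec'_mk, hρ₁, ha]
    exact (Algebra.smul_def _ c).trans (congrArg (· * c) (hρ₁ b).symm)
  obtain ⟨f₁, hf₁, -, hf₁m⟩ := lifts_and_natDegree_eq_and_monic
    (mem_lifts_of_forall ρ₁ P.f fun c hc => hrange c (by simp [S, hc])) P.monic_f
  obtain ⟨g₁, hg₁⟩ := (mem_lifts (f := ρ₁) P.g).1 (mem_lifts_of_forall ρ₁ _ fun c hc => hrange c (by simp [S, hc]))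
  obtain ⟨q₁, hq₁⟩ := (mem_lifts (f := ρ₁) p₁).1 (mem_lifts_of_forall ρ₁ _ fun c hc => hrange c (by simp [S, hc]))
  obtain ⟨q₂, hq₂⟩ := (mem_lifts (f := ρ₁) p₂).1 (mem_lifts_of_forall ρ₁ _ fun c hc => hrange c (by simp [S, hc]))
  let D := derivative f₁ * q₁ + f₁ * q₂ - g₁ ^ n
  have hD : D.map ρ₁ = 0 := by
    simp only [D, Polynomial.map_sub, Polynomial.map_add, Polynomial.map_mul, Polynomial.map_pow,
      ← derivative_map, hf₁, hg₁, hq₁, hq₂, e, sub_self]
  have hkill : ∀ i, ∃ m ∈ M, ∃ (a : A) (s : Submonoid.powers b),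
      D.coeff i = IsLocalization.mk' _ a s ∧ m * a = 0 := by
    intro i
    obtain ⟨a, s, has⟩ := IsLocalization.exists_mk'_eq (Submonoid.powers b) (D.coeff i)
    have h0 : algebraMap A R' a = 0 := by
      have h1 : ρ₁ (D.coeff i) = 0 := by rw [← Polynomial.coeff_map, hD, coeff_zero]
      have h2 := congrArg ρ₁ (IsLocalization.mk'_spec (Localization.Away b) a s)
      rw [map_mul, has, h1, zero_mul, hρ₁] at h2
      exact h2.symm
    obtain ⟨⟨m, hm⟩, hma⟩ := (IsLocalization.map_eq_zero_iff M R' a).1 h0
    exact ⟨m, hm, a, s, has.symm, hma⟩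
  choose m hm a s hs hma using hkill
  let d : A := b * ∏ i ∈ D.support, m i
  refine ⟨d, M.mul_mem hb (M.prod_mem fun i _ => hm i), ?_⟩
  have hdu : IsUnit (algebraMap A (Localization.Away d) d) := IsLocalization.Away.algebraMap_isUnit d
  have hbd : IsUnit (algebraMap A (Localization.Away d) b) :=
    isUnit_of_dvd_unit (map_dvd _ (Dvd.intro _ rfl)) hdu
  let η : Localization.Away b →+* Localization.Away d := IsLocalization.Away.lift b hbd
  have hη : ∀ a, η (algebraMap A _ a) = algebraMap A _ a := fun a => IsLocalization.Away.lift_eq b hbd a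
  have hηD : D.map η = 0 := by
    ext i
    rw [Polynomial.coeff_map, coeff_zero]
    by_cases hi : i ∈ D.support
    · have hmu : IsUnit (algebraMap A (Localization.Away d) (m i)) :=
        isUnit_of_dvd_unit (map_dvd _ ((Finset.dvd_prod_of_mem m hi).trans (Dvd.intro_left _ rfl))) hdu
      have h0 : algebraMap A (Localization.Away d) (a i) = 0 :=
        hmu.mul_right_eq_zero.1 (by rw [← map_mul, hma, map_zero])
      have h2 := congrArg η (IsLocalization.mk'_spec (Localization.Away b) (a i) (s i))
      rw [map_mul, ← hs, hη, hη, h0] at h2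
      have hsu : IsUnit (algebraMap A (Localization.Away d) (s i : A)) := by
        obtain ⟨k, hk⟩ := (s i).2
        rw [← hk, map_pow]
        exact hbd.pow k
      exact hsu.mul_left_eq_zero.1 h2
    · rw [Polynomial.notMem_support_iff.1 hi, map_zero]
  refine ⟨⟨f₁.map η, hf₁m.map η, g₁.map η, q₁.map η, q₂.map η, n, ?_⟩, fun ρ hρ => ?_⟩
  · refine sub_eq_zero.1 ?_
    rw [← hηD]
    simp [D, derivative_map]
  · have hc : ρ.comp η = ρ₁ := IsLocalization.ringHom_ext (Submonoid.powers b) (RingHom.ext fun x => by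
      simp only [RingHom.comp_apply, hη, hρ₁]
      exact RingHom.congr_fun hρ x)
    exact standardEtalePair_ext ((Polynomial.map_map η ρ f₁).trans (hc ▸ hf₁))
      ((Polynomial.map_map η ρ g₁).trans (hc ▸ hg₁))

theorem away_lift_comp_algebraMap {B C : Type*} [CommRing B] [CommRing C] (d : B) (g : B →+* C)
    (hu : IsUnit (g d)) : (IsLocalization.Away.lift d hu : Localization.Away d →+* C).comp (algebraMap B _) = g :=
  RingHom.ext fun a => IsLocalization.Away.lift_eq d hu a

theorem away_lift_comp {A B C : Type*} [CommRing A] [CommRing B] [CommRing C] (i : A →+* B) (d : A)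
    (g : B →+* C) (hu : IsUnit (g (i d))) (h : A →+* C) (hh : IsUnit (h d)) (hc : ∀ x, g (i x) = h x)
    (iΛ : Localization.Away d →+* Localization.Away (i d)) (hiΛ : ∀ x, iΛ (algebraMap A _ x) = algebraMap B _ (i x)) :
    (IsLocalization.Away.lift (i d) hu : Localization.Away (i d) →+* C).comp iΛ = IsLocalization.Away.lift d hh := by
  refine IsLocalization.ringHom_ext (Submonoid.powers d) (RingHom.ext fun x => ?_)
  simp only [RingHom.comp_apply, hiΛ, IsLocalization.Away.lift_eq, hc]

variable (O R : Type u) [CommRing O] [CommRing R] [Algebra O R] (T : Type u)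

/-- Inclusion of the polynomial algebra in finitely many of the variables. -/
noncomputable def incl (F : Finset T) :
    R ⊗[O] MvPolynomial {x // x ∈ F} O →ₐ[R] R ⊗[O] MvPolynomial T O :=
  Algebra.TensorProduct.map (AlgHom.id R R) (MvPolynomial.rename (fun x : {x // x ∈ F} => (x : T)))

theorem incl_injective (F : Finset T) : Function.Injective (incl O R T F) := by
  let r : R ⊗[O] MvPolynomial T O →ₐ[R] R ⊗[O] MvPolynomial {x // x ∈ F} O :=
    Algebra.TensorProduct.map (AlgHom.id R R)
      (MvPolynomial.killCompl (f := fun x : {x // x ∈ F} => (x : T)) Subtype.val_injective)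
  refine Function.LeftInverse.injective (g := r) fun x => ?_
  induction x using TensorProduct.induction_on with
  | zero => simp
  | tmul a p => simp [r, incl, MvPolynomial.killCompl_rename_app]
  | add x y hx hy => simp [hx, hy]

theorem range_incl_mono {F G : Finset T} (h : F ⊆ G) :
    Set.range (incl O R T F) ⊆ Set.range (incl O R T G) := by
  rintro _ ⟨x, rfl⟩
  refine ⟨Algebra.TensorProduct.map (AlgHom.id R R)
    (MvPolynomial.rename (fun y : {x // x ∈ F} => (⟨y, h y.2⟩ : {x // x ∈ G}))) x, ?_⟩
  induction x using TensorProduct.induction_on with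
  | zero => simp
  | tmul a p => simp [incl, MvPolynomial.rename_rename, Function.comp_def]
  | add x y hx hy => simp [hx, hy]

theorem exists_mem_range_incl (x : R ⊗[O] MvPolynomial T O) : ∃ F, x ∈ Set.range (incl O R T F) := by
  classical
  induction x using TensorProduct.induction_on with
  | zero => exact ⟨∅, 0, map_zero _⟩
  | tmul a p =>
    obtain ⟨F, q, rfl⟩ := MvPolynomial.exists_finset_rename p
    exact ⟨F, a ⊗ₜ q, by simp [incl]⟩
  | add x y hx hy =>
    obtain ⟨F, hF⟩ := hx
    obtain ⟨G, hG⟩ := hy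
    obtain ⟨x', rfl⟩ := range_incl_mono O R T (Finset.subset_union_left (s₂ := G)) hF
    obtain ⟨y', rfl⟩ := range_incl_mono O R T (Finset.subset_union_right (s₁ := F)) hG
    exact ⟨F ∪ G, x' + y', map_add _ _ _⟩

variable [IsLocalRing O]

/-- The polynomials with nonzero image over the residue field. -/
noncomputable def prime : Ideal (MvPolynomial T O) :=
  RingHom.ker (MvPolynomial.map (σ := T) (IsLocalRing.residue O))

instance : (prime O T).IsPrime := RingHom.ker_isPrime _

/-- The local ring `O(T)`. -/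
abbrev Gen : Type u := Localization.AtPrime (prime O T)

/-- The ring map from polynomials in finitely many variables to `O(T)`. -/
noncomputable def toGen (F : Finset T) : MvPolynomial {x // x ∈ F} O →ₐ[O] Gen O T :=
  (IsScalarTower.toAlgHom O (MvPolynomial T O) (Gen O T)).comp (MvPolynomial.rename (fun x : {x // x ∈ F} => (x : T)))

/-- The map after base change. -/
noncomputable def toGenR (F : Finset T) : R ⊗[O] MvPolynomial {x // x ∈ F} O →ₐ[R] R ⊗[O] Gen O T :=
  Algebra.TensorProduct.map (AlgHom.id R R) (toGen O T F)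

theorem toGenR_eq (F : Finset T) (x : R ⊗[O] MvPolynomial {x // x ∈ F} O) :
    toGenR O R T F x = Algebra.TensorProduct.map (AlgHom.id R R)
      (IsScalarTower.toAlgHom O (MvPolynomial T O) (Gen O T)) (incl O R T F x) := by
  induction x using TensorProduct.induction_on with
  | zero => simp
  | tmul a p => simp [incl, toGenR, toGen]
  | add x y hx hy => simp [hx, hy]

set_option maxHeartbeats 1000000 in
/-- Standard étale algebras over `R ⊗ O(T)` come from finitely many variables. -/
theorem exists_pair_finset (P : StandardEtalePair (R ⊗[O] Gen O T)) :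
    ∃ (F : Finset T) (d : R ⊗[O] MvPolynomial {x // x ∈ F} O) (hd : IsUnit (toGenR O R T F d))
      (P₀ : StandardEtalePair (Localization.Away d)),
      P₀.map (IsLocalization.Away.lift d hd : Localization.Away d →+* R ⊗[O] Gen O T) = P := by
  classical
  letI : Algebra (R ⊗[O] MvPolynomial T O) (R ⊗[O] Gen O T) :=
    (Algebra.TensorProduct.map (AlgHom.id R R)
      (IsScalarTower.toAlgHom O (MvPolynomial T O) (Gen O T))).toRingHom.toAlgebra
  haveI : IsScalarTower R (R ⊗[O] MvPolynomial T O) (R ⊗[O] Gen O T) := ⟨fun x y z => by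
    let φ := Algebra.TensorProduct.map (AlgHom.id R R) (IsScalarTower.toAlgHom O (MvPolynomial T O) (Gen O T))
    change φ (x • y) * z = x • (φ y * z)
    rw [map_smul φ x y, smul_mul_assoc]⟩
  haveI := IsLocalization.tensorProduct_tensorProduct_right O R (prime O T).primeCompl (Gen O T)
    (RingHom.ext fun x => by simp [RingHom.algebraMap_toAlgebra])
  obtain ⟨dT, hdT, PT, hPT⟩ := exists_pair_away
    ((prime O T).primeCompl.map (Algebra.TensorProduct.includeRight (R := O) (A := R))) P
  obtain ⟨p₁, p₂, n, e⟩ := PT.cond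
  let S : Finset (Localization.Away dT) := PT.f.coeffs ∪ PT.g.coeffs ∪ p₁.coeffs ∪ p₂.coeffs
  have hnum : ∀ c : Localization.Away dT, ∃ (a : R ⊗[O] MvPolynomial T O) (k : ℕ),
      c * algebraMap _ _ (dT ^ k) = algebraMap _ _ a := by
    intro c
    obtain ⟨⟨a, ⟨_, k, rfl⟩⟩, hc⟩ := IsLocalization.surj (Submonoid.powers dT) c
    exact ⟨a, k, hc⟩
  choose num k hk using hnum
  choose FS hFS using exists_mem_range_incl O R T
  obtain ⟨F, hF₁, hF₂⟩ : ∃ F : Finset T, FS dT ⊆ F ∧ (S.biUnion fun c => FS (num c)) ⊆ F :=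
    ⟨_, Finset.subset_union_left, Finset.subset_union_right⟩
  obtain ⟨d, rfl⟩ := range_incl_mono O R T hF₁ (hFS dT)
  have hd : IsUnit (toGenR O R T F d) := by
    rw [toGenR_eq]
    exact IsLocalization.map_units (R ⊗[O] Gen O T) ⟨_, hdT⟩
  refine ⟨F, d, hd, ?_⟩
  let iΛ : Localization.Away d →+* Localization.Away (incl O R T F d) :=
    IsLocalization.map _ (incl O R T F).toRingHom
      (Submonoid.powers_le.2 (show incl O R T F d ∈ Submonoid.powers (incl O R T F d) from
        Submonoid.mem_powers _) : Submonoid.powers d ≤ (Submonoid.powers (incl O R T F d)).comap _)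
  have hiΛ : ∀ x, iΛ (algebraMap _ _ x) = algebraMap _ _ (incl O R T F x) := fun x => IsLocalization.map_eq _ x
  have hinj : Function.Injective iΛ := by
    haveI : IsLocalization ((Submonoid.powers d).map (incl O R T F).toRingHom)
        (Localization.Away (incl O R T F d)) := by
      rw [Submonoid.map_powers]
      exact inferInstanceAs (IsLocalization.Away (incl O R T F d) _)
    exact IsLocalization.map_injective_of_injective _ _ _ (incl_injective O R T F)
  have hrange : ∀ c ∈ S, c ∈ Set.range iΛ := by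
    intro c hc
    obtain ⟨a, ha⟩ := range_incl_mono O R T
      ((Finset.subset_biUnion_of_mem (fun c => FS (num c)) hc).trans hF₂) (hFS (num c))
    refine ⟨IsLocalization.mk' _ a (⟨d ^ k c, k c, rfl⟩ : Submonoid.powers d), ?_⟩
    have hu : IsUnit (algebraMap (R ⊗[O] MvPolynomial T O) (Localization.Away (incl O R T F d))
        (incl O R T F d ^ k c)) := by
      rw [map_pow]
      exact (IsLocalization.Away.algebraMap_isUnit _).pow _
    refine hu.mul_right_cancel ?_
    have h := congrArg iΛ (IsLocalization.mk'_spec (Localization.Away d) a (⟨d ^ k c, k c, rfl⟩ : Submonoid.powers d))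
    rw [map_mul, hiΛ, hiΛ, map_pow (incl O R T F)] at h
    rw [hk c, ← ha]
    exact h
  obtain ⟨f₀, hf₀, -, hf₀m⟩ := lifts_and_natDegree_eq_and_monic
    (mem_lifts_of_forall iΛ PT.f fun c hc => hrange c (by simp [S, hc])) PT.monic_f
  obtain ⟨g₀, hg₀⟩ := (mem_lifts (f := iΛ) PT.g).1 (mem_lifts_of_forall iΛ _ fun c hc => hrange c (by simp [S, hc]))
  obtain ⟨q₁, hq₁⟩ := (mem_lifts (f := iΛ) p₁).1 (mem_lifts_of_forall iΛ _ fun c hc => hrange c (by simp [S, hc]))
  obtain ⟨q₂, hq₂⟩ := (mem_lifts (f := iΛ) p₂).1 (mem_lifts_of_forall iΛ _ fun c hc => hrange c (by simp [S, hc]))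
  refine ⟨⟨f₀, hf₀m, g₀, q₁, q₂, n, Polynomial.map_injective iΛ hinj ?_⟩, ?_⟩
  · simp only [Polynomial.map_add, Polynomial.map_mul, Polynomial.map_pow, ← derivative_map, hf₀, hg₀, hq₁,
      hq₂, e]
  · let φT : R ⊗[O] MvPolynomial T O →+* R ⊗[O] Gen O T := (Algebra.TensorProduct.map (AlgHom.id R R)
      (IsScalarTower.toAlgHom O (MvPolynomial T O) (Gen O T))).toRingHom
    have hdu : IsUnit (φT (incl O R T F d)) := IsLocalization.map_units (R ⊗[O] Gen O T) ⟨_, hdT⟩
    let ρ : Localization.Away (incl O R T F d) →+* R ⊗[O] Gen O T :=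
      IsLocalization.Away.lift (incl O R T F d) (g := φT) hdu
    have hρ := away_lift_comp_algebraMap (incl O R T F d) φT hdu
    have hc : ρ.comp iΛ = IsLocalization.Away.lift d hd :=
      away_lift_comp (incl O R T F).toRingHom d φT hdu (toGenR O R T F).toRingHom hd
        (fun x => (toGenR_eq O R T F x).symm) iΛ hiΛ
    refine Eq.trans (standardEtalePair_ext ?_ ?_) (hPT ρ hρ)
    · exact ((Polynomial.map_map iΛ ρ f₀).trans (congrArg (fun h => f₀.map h) hc)).symm.trans
        (congrArg (Polynomial.map ρ) hf₀)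
    · exact ((Polynomial.map_map iΛ ρ g₀).trans (congrArg (fun h => g₀.map h) hc)).symm.trans
        (congrArg (Polynomial.map ρ) hg₀)

end Groth.Agent.PurTrans
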